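import Groth.Agent.L04.HyperSurf.Numeric
import Groth.Agent.L03.RefRegSch
import Groth.Agent.L03.Euler.Hilb
import Groth.Agent.L22.Reg.PnGen
import Groth.Agent.L22.Reg.Chi
import Groth.Agent.L22.PDual.Horrocks
import Groth.Agent.L22.PDual.EnriquesSeveri
import Groth.Agent.L20.PnPic.Over
import Groth.Agent.L04.FatPoints.Regular
import Groth.Agent.L10.FMK.SuppDim
import Groth.Agent.L16.ProjSpace.Dim

/-!
# Closed subschemes with the Hilbert polynomial of a hypersurface
-/

set_option autoImplicit false
set_option backward.isDefEq.respectTransparency false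
set_option linter.style.haveILetI false

universe u

open CategoryTheory CategoryTheory.Limits AlgebraicGeometry TopologicalSpace Opposite IsLocalRing

noncomputable section

namespace Groth.L04.HyperSurf

open Groth.L21.RR (st)
open Groth.L15.Ref
open Groth.L21.Mod (stalkF)

section General

variable {X : Scheme.{u}}

/-- A regular local ring of dimension at most one is principal. -/
theorem isPrincipalIdealRing_of_dim_le_one (R : Type u) [CommRing R] [IsDomain R] [IsRegularLocalRing R]
    (h : ringKrullDim R ≤ 1) : IsPrincipalIdealRing R := by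
  have h1 : (maximalIdeal R).spanFinrank ≤ 1 := by
    have h2 := IsRegularLocalRing.spanFinrank_maximalIdeal (R := R)
    rw [← h2] at h
    exact_mod_cast h
  refine ((tfae_of_isNoetherianRing_of_isLocalRing_of_isDomain R).out 0 4).2 ?_
  obtain ⟨s, hc, hs⟩ := Submodule.FG.exists_span_finset_card_eq_spanFinrank (IsNoetherian.noetherian (maximalIdeal R))
  rcases Finset.card_le_one_iff_subset_singleton.1 (hc.trans_le h1) with ⟨a, ha⟩
  rcases Finset.subset_singleton_iff.1 ha with rfl | rfl
  · exact ⟨⟨0, by rw [← hs]; simp⟩⟩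
  · exact ⟨⟨a, by rw [← hs]; simp⟩⟩

/-- A closed set all of whose points have codimension at least `c`. -/
theorem dim_add_le {S : Set X} (hS : IsClosed S) {N c : ℕ} (hN : topologicalKrullDim X = N)
    (hc : ∀ z ∈ S, (c : WithBot ℕ∞) ≤ ringKrullDim (X.presheaf.stalk z)) :
    topologicalKrullDim S ≤ ((N - c : ℕ) : WithBot ℕ∞) := by
  haveI : QuasiSober S := hS.isClosedEmbedding_subtypeVal.quasiSober
  rw [Groth.L19.topologicalKrullDim_eq_krullDim S]
  let e : @OrderIso S S (specializationOrder S).toPreorder.toLE (Subtype.preorder (· ∈ S)).toLE :=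
    @RelIso.mk S S _ _ (Equiv.refl _) fun {a b} => (subtype_specializes_iff b a).symm
  rw [@Order.krullDim_eq_of_orderIso S S (specializationOrder S).toPreorder (Subtype.preorder (· ∈ S)) e]
  refine iSup_le fun p => ?_
  let f : S → X := Subtype.val
  have hf : StrictMono f := Subtype.strictMono_coe _
  have h1 : (p.length : ℕ∞) ≤ Order.height (f p.last) :=
    Order.length_le_height_last (p := p.map f hf)
  have h2 := Groth.L10.FMK.height_add_coheight_le (f p.last)
  rw [← Groth.L10.FMK.krullDim_points, hN] at h2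
  have h3 := hc _ p.last.2
  rw [ringKrullDim_stalk_eq_coheight] at h3
  have h3' : (c : ℕ∞) ≤ Order.coheight (f p.last) := by exact_mod_cast h3
  have h4 : (p.length : ℕ∞) + c ≤ N := (add_le_add h1 h3').trans (by exact_mod_cast h2)
  have h5 : p.length + c ≤ N := by exact_mod_cast h4
  exact_mod_cast (by omega : p.length ≤ N - c)

variable [IsIntegral X] [IsLocallyNoetherian X]

theorem isTorsionFree_O (x : X) :
    Module.IsTorsionFree (X.presheaf.stalk x) ((Coh.structureModule X).presheaf.stalk x) :=
  (strE x).symm.injective.moduleIsTorsionFree _ fun r v => map_smul _ r v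

/-- The biduality map of a submodule of `O` is injective on stalks. -/
theorem injective_bidual {F : X.Modules} (hF : Coh.IsCoh F) (ι : F ⟶ Coh.structureModule X) [Mono ι] (x : X) :
    Function.Injective (RefHull.stalkMapₗ (RefHull.bidualMap F) x) := by
  haveI := isQCoh_structureModule (X := X)
  rw [injective_iff_map_eq_zero]
  intro v hv
  obtain ⟨θ, hθ⟩ := (evalStalk_bijective F (Coh.structureModule X) hF x).2 (RefHull.stalkMapₗ ι x)
  have h1 : RefHull.bidualAt F x v = 0 := by
    rw [← stalkMapₗ_bidual, LinearMap.comp_apply, hv, map_zero]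
  have h2 : RefHull.stalkMapₗ ι x v = 0 := by
    rw [← hθ, ← RefHull.bidualAt_apply, h1, LinearMap.zero_apply]
  exact (Groth.L21.Mod.mono_iff_stalk_injective ι).1 inferInstance x (h2.trans (map_zero _).symm)

theorem isTorsionFree_sub {F : X.Modules} (ι : F ⟶ Coh.structureModule X) [Mono ι] (x : X) :
    Module.IsTorsionFree (X.presheaf.stalk x) (F.presheaf.stalk x) := by
  haveI := isTorsionFree_O x
  exact (show Function.Injective (RefHull.stalkMapₗ ι x) from
    (Groth.L21.Mod.mono_iff_stalk_injective ι).1 inferInstance x).moduleIsTorsionFree _ fun r v => map_smul _ r v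

/-- The biduality map of a submodule of `O` is bijective on stalks in codimension at most one. -/
theorem bijective_bidual (hreg : ∀ x : X, IsRegularLocalRing (X.presheaf.stalk x)) {F : X.Modules}
    (hF : Coh.IsCoh F) (ι : F ⟶ Coh.structureModule X) [Mono ι] (x : X)
    (hx : ringKrullDim (X.presheaf.stalk x) ≤ 1) :
    Function.Bijective (RefHull.stalkMapₗ (RefHull.bidualMap F) x) := by
  haveI := isQCoh_structureModule (X := X)
  haveI := hreg x
  haveI := isPrincipalIdealRing_of_dim_le_one _ hx
  haveI := finite_stalk hF x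
  haveI := isTorsionFree_sub ι x
  haveI : Module.Free (X.presheaf.stalk x) (F.presheaf.stalk x) := Module.free_of_finite_type_torsion_free'
  have h := (bidualAt_bijective_iff hF x).2 ⟨Module.bijective_dual_eval _ _⟩
  rw [← stalkMapₗ_bidual, LinearMap.coe_comp] at h
  exact (Function.Bijective.of_comp_iff'
    (evalStalk_bijective (RefHull.dual F) (Coh.structureModule X) (isCoh_dual hF) x) _).1 h

/-- A nonzero submodule of `O` contains everything at the generic point. -/
theorem surjective_eta {F : X.Modules} (hF : Coh.IsCoh F) (ι : F ⟶ Coh.structureModule X) [Mono ι]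
    (hne : ¬ IsZero F) : Function.Surjective (RefHull.stalkMapₗ ι (genericPoint ↥X)) := by
  haveI : Coh.IsQCoh F := hF.1
  rw [Groth.L21.Mod.isZero_iff_support_eq_empty, Set.eq_empty_iff_forall_notMem, not_forall_not] at hne
  obtain ⟨x, hx⟩ := hne
  haveI : Nontrivial (F.presheaf.stalk x) := not_subsingleton_iff_nontrivial.1 hx
  haveI := isTorsionFree_sub ι x
  obtain ⟨v, hv⟩ := exists_ne (0 : F.presheaf.stalk x)
  have hinj : Function.Injective (RefHull.stalkMapₗ ι (genericPoint ↥X)) :=
    (Groth.L21.Mod.mono_iff_stalk_injective ι).1 inferInstance _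
  have hw : RefHull.stalkMapₗ ι (genericPoint ↥X) (toEta F x v) ≠ 0 := fun h0 =>
    hv (toEta_injective x ((hinj (h0.trans (map_zero _).symm)).trans (map_zero _).symm))
  intro t
  let e := strE (X := X) (genericPoint ↥X)
  have hw' : e.symm (RefHull.stalkMapₗ ι (genericPoint ↥X) (toEta F x v)) ≠ 0 := fun h0 =>
    hw (e.symm.injective (h0.trans (map_zero _).symm))
  have hu : IsUnit (e.symm (RefHull.stalkMapₗ ι (genericPoint ↥X) (toEta F x v))) :=
    IsUnit.mk0 (G₀ := X.functionField) _ hw'
  obtain ⟨b, hb⟩ := hu.exists_left_inv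
  refine ⟨(e.symm t * b) • toEta F x v, e.symm.injective ?_⟩
  rw [map_smul, map_smul, smul_eq_mul, mul_assoc, hb, mul_one]

theorem subsingleton_stalk_cokernel {A B : X.Modules} (f : A ⟶ B) {y : X}
    (h : Function.Surjective (RefHull.stalkMapₗ f y)) : Subsingleton ((cokernel f).presheaf.stalk y) :=
  Groth.L04.FatPoints.subsingleton_stalk_cokernel f h

/-- The reflexive hull of a nonzero submodule of `O` is invertible. -/
theorem isInvertible_ddual (hreg : ∀ x : X, IsRegularLocalRing (X.presheaf.stalk x)) {F : X.Modules}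
    (hF : Coh.IsCoh F) (ι : F ⟶ Coh.structureModule X) [Mono ι] (hne : ¬ IsZero F) :
    PicF.IsInvertible (RefHull.ddual F) := by
  let η := RefHull.bidualMap F
  have hQ := (Groth.L16.CohKernel.isCoh_kernel_cokernel hF (isCoh_dual (isCoh_dual hF)) η).2
  have hQ' := (Groth.L16.CohKernel.isCoh_kernel_cokernel hF Groth.L16.CohClosedPush.isCoh_structure ι).2
  let U : X.Opens := ⟨(CohB1.support (cokernel η))ᶜ ∩ (CohB1.support (cokernel ι))ᶜ,
    (Groth.L16.CohSupport.isClosed_support _ hQ.2).isOpen_compl.inter (Groth.L16.CohSupport.isClosed_support _ hQ'.2).isOpen_compl⟩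
  have hmem : genericPoint ↥X ∈ U := by
    refine ⟨fun h => h (subsingleton_stalk_cokernel η ?_), fun h => h (subsingleton_stalk_cokernel ι ?_)⟩
    · refine (bijective_bidual hreg hF ι _ ?_).2
      rw [ringKrullDim_eq_zero_of_isField (Field.toIsField X.functionField)]
      exact zero_le_one
    · exact surjective_eta hF ι hne
  have hiso : ∀ {A B : X.Modules} (f : A ⟶ B), Coh.IsCoh B → Mono f →
      (∀ y ∈ U, y ∉ CohB1.support (cokernel f)) → IsIso ((Scheme.Modules.restrictFunctor U.ι).map f) := by
    intro A B f _ _ hU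
    haveI : Mono ((Scheme.Modules.restrictFunctor U.ι).map f) := (Scheme.Modules.restrictFunctor U.ι).map_mono f
    haveI : Epi ((Scheme.Modules.restrictFunctor U.ι).map f) := by
      haveI : (Scheme.Modules.restrictFunctor U.ι).Additive :=
        (Scheme.Modules.restrictAdjunction U.ι).left_adjoint_additive
      refine Preadditive.epi_of_isZero_cokernel _ (IsZero.of_iso ?_
        (PreservesCokernel.iso (Scheme.Modules.restrictFunctor U.ι) f).symm)
      rw [Groth.L21.Mod.isZero_iff_support_eq_empty]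
      change CohB1.support ((cokernel f).restrict U.ι) = ∅
      rw [Groth.L21.Mod.support_restrict, Set.eq_empty_iff_forall_notMem]
      exact fun y => hU y.1 y.2
    exact isIso_of_mono_of_epi _
  haveI : Mono η := (Groth.L21.Mod.mono_iff_stalk_injective η).2 fun x => injective_bidual hF ι x
  haveI := hiso η (isCoh_dual (isCoh_dual hF)) inferInstance fun y hy => hy.1
  haveI := hiso ι Groth.L16.CohClosedPush.isCoh_structure inferInstance fun y hy => hy.2
  refine Groth.L03.RefRegSch.isInvertible_of_rank_one hreg (isCoh_dual (isCoh_dual hF)) (isReflexive_ddual hF)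
    ⟨U, U.2.dense ⟨_, hmem⟩, ?_⟩
  refine Groth.L18.Ample.isInvertible_of_iso ?_
    (Groth.L18.Ample.isInvertible_restrict (Groth.L18.Ample.isInvertible_structureModule X) U)
  exact
    (asIso ((Scheme.Modules.restrictFunctor U.ι).map ι)).symm ≪≫ asIso ((Scheme.Modules.restrictFunctor U.ι).map η)

end General

section Pn

variable {k : Type u} [Field k] {r : ℕ}

local notation "P" => CohB1.ProjSpace r k

open Groth.L22.Reg (O' tw' nonempty_tw_tw nonempty_O_add)
open Groth.L00.Tensor (tensorRightF tensorIso tensorUnitLeft tensorComm)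

theorem euler_tw_add {A B C : (P).Modules} {f : A ⟶ B} {g : B ⟶ C} {w : f ≫ g = 0}
    (hS : (ShortComplex.mk f g w).ShortExact) (h₁ : Coh.IsCoh A) (h₂ : Coh.IsCoh B) (h₃ : Coh.IsCoh C) (t : ℤ) :
    Curv2.euler k (P) (tw' B t) = Curv2.euler k (P) (tw' A t) + Curv2.euler k (P) (tw' C t) := by
  haveI := Groth.L22.Reg.isProper_over_proj (k := k) (n := r)
  haveI : IsLocallyNoetherian (P) := LocallyOfFiniteType.isLocallyNoetherian ((P) ↘ Spec (CommRingCat.of k))
  have hL := Groth.L16.ProjTwist.isInvertible_twistProjSpace r k t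
  have h := Groth.L03.Euler.euler_add (k := k) (Groth.L03.Euler.shortExact_tensor hL hS)
    (Groth.L03.Euler.isCoh_tensor hL h₁) (Groth.L03.Euler.isCoh_tensor hL h₂) (Groth.L03.Euler.isCoh_tensor hL h₃)
  simp only [ShortComplex.map_X₁, ShortComplex.map_X₂, ShortComplex.map_X₃] at h
  exact h

/-- A coherent module whose twists have no Euler characteristic is zero. -/
theorem isZero_of_euler {Q : (P).Modules} (hQ : Coh.IsCoh Q) (h : ∀ n : ℕ, Curv2.euler k (P) (tw' Q n) = 0) :
    IsZero Q := by
  haveI := Groth.L22.Reg.isProper_over_proj (k := k) (n := r)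
  obtain ⟨d₀, hd₀⟩ := Groth.L16.ProjSpace.exists_vanishing r k Q hQ
  obtain ⟨t₀, ht₀⟩ := Groth.L22.Reg.exists_gg_twist hQ 0
  have hgg : Curv2.IsGloballyGenerated (tw' Q ((max d₀ t₀ : ℕ) : ℤ)) := by
    simpa using ht₀ (max d₀ t₀) (le_max_right _ _)
  refine Groth.L22.PDual.isZero_of_isZero_tw (Groth.L22.PDual.isZero_of_gg hgg ?_)
  haveI : IsLocallyNoetherian (P) := LocallyOfFiniteType.isLocallyNoetherian ((P) ↘ Spec (CommRingCat.of k))
  have hcoh : Coh.IsCoh (tw' Q ((max d₀ t₀ : ℕ) : ℤ)) :=
    Groth.L03.Euler.isCoh_tensor (Groth.L16.ProjTwist.isInvertible_twistProjSpace r k _) hQ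
  have h0 := h (max d₀ t₀)
  rw [Groth.L03.Euler.euler_eq_sum (k := k) (N := 1) fun q hq =>
    Groth.L16.ProjSpace.subsingleton_of_iso (tensorComm _ _) q (hd₀ _ (le_max_left _ _) q hq)] at h0
  haveI := Groth.L16.ProperFinite.finite_HH k hcoh 0
  refine (Module.finrank_zero_iff (R := k)).1 ?_
  simpa using h0

/-- The Hilbert polynomial of a hypersurface characterizes hypersurfaces. -/
theorem nonempty_iso (hr : 1 ≤ r) (d : ℕ) (I : (P).IdealSheafData)
    (hP : ∀ t : ℤ, Curv2.euler k (P) (tw' (ClSub.quotMod I) t) =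
      Ring.choose (t + r) r - Ring.choose (t + r - d) r) :
    Nonempty (ClSub.idealMod I ≅ Twist.twistProjSpace r k (-(d : ℤ))) := by
  haveI : IsIntegral (P) := Groth.L16.ProjSpace.isIntegral r k
  haveI := Groth.L22.Reg.isProper_over_proj (k := k) (n := r)
  haveI : IsLocallyNoetherian (P) := LocallyOfFiniteType.isLocallyNoetherian ((P) ↘ Spec (CommRingCat.of k))
  have hreg : ∀ x : P, IsRegularLocalRing ((P).presheaf.stalk x) := Groth.L22.PDual.regular_stalk
  let F := ClSub.idealMod I
  let ι := ClSub.idealModι I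
  haveI : Mono ι := inferInstanceAs (Mono (kernel.ι _))
  have hF : Coh.IsCoh F := Groth.L21.RR.isCoh_idealMod I
  have hO : ∀ t : ℤ, Curv2.euler k (P) (tw' (Coh.structureModule (P)) t) = Ring.choose (t + r) r := fun t => by
    rw [Groth.L03.Euler.euler_iso (tensorUnitLeft _), ← Groth.L22.Reg.euler_O (k := k) (by omega) t]
  have hI : ∀ t : ℤ, Curv2.euler k (P) (tw' F t) = Ring.choose (t + r - d) r := fun t => by
    have h := euler_tw_add (Groth.L21.RR.shortExact_idealSeq I) hF Groth.L16.CohClosedPush.isCoh_structure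
      (Groth.L21.RR.isCoh_quotMod I) t
    rw [hO, hP] at h
    linarith
  have hne : ¬ IsZero F := fun hz => by
    have h := hI (d : ℤ)
    have hz' : IsZero (tw' F (d : ℤ)) := (tensorRightF (O' r k (d : ℤ))).map_isZero hz
    rw [Groth.L03.Euler.euler_of_isZero hz',
      show (d : ℤ) + r - d = ((r : ℕ) : ℤ) by ring, Ring.choose_natCast, Nat.choose_self] at h
    simp at h
  have hD := isInvertible_ddual hreg hF ι hne
  obtain ⟨e, ⟨φ⟩⟩ := Groth.L20.PnPic.exists_iso_twist (n := r) (R := k) (RefHull.ddual F) hD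
  let η := RefHull.bidualMap F
  haveI : Mono η := (Groth.L21.Mod.mono_iff_stalk_injective η).2 fun x => injective_bidual hF ι x
  have hDc : Coh.IsCoh (RefHull.ddual F) := isCoh_dual (isCoh_dual hF)
  have hQ := (Groth.L16.CohKernel.isCoh_kernel_cokernel hF hDc η).2
  have hS : (ShortComplex.mk η (cokernel.π η) (cokernel.condition η)).ShortExact :=
    { exact := ShortComplex.exact_cokernel η, mono_f := inferInstance, epi_g := inferInstance }
  have hQe : ∀ t : ℤ, Curv2.euler k (P) (tw' (cokernel η) t) =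
      Ring.choose (e + t + r) r - Ring.choose (t + r - d) r := fun t => by
    have h : Curv2.euler k (P) (tw' (RefHull.ddual F) t) =
        Curv2.euler k (P) (tw' F t) + Curv2.euler k (P) (tw' (cokernel η) t) := euler_tw_add hS hF hDc hQ t
    obtain ⟨a⟩ := nonempty_O_add (n := r) (R := k) (rfl : e + t = e + t)
    let i : tw' (RefHull.ddual F) t ≅ O' r k (e + t) := tensorIso φ (Iso.refl _) ≪≫ a
    rw [Groth.L03.Euler.euler_iso i, Groth.L22.Reg.euler_O (by omega), hI] at h
    linarith
  have hcodim : ∀ z ∈ CohB1.support (cokernel η), ((2 : ℕ) : WithBot ℕ∞) ≤ ringKrullDim ((P).presheaf.stalk z) := by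
    intro z hz
    by_contra hlt
    refine hz (subsingleton_stalk_cokernel η (bijective_bidual hreg hF ι z ?_).2)
    rw [ringKrullDim_stalk_eq_coheight] at hlt ⊢
    have h2 : ¬ ((2 : ℕ) : ℕ∞) ≤ Order.coheight z := fun h' => hlt (WithBot.coe_le_coe.2 h')
    have h3 : Order.coheight z ≤ 1 := ENat.lt_add_one_iff (by simp) |>.1 (by simpa [one_add_one_eq_two] using not_le.1 h2)
    exact_mod_cast h3
  have hL := Groth.L16.ProjTwist.isInvertible_twistProjSpace r k 1
  obtain ⟨P₀, hdeg, hP₀⟩ : ∃ P₀ : Polynomial ℚ, (P₀.natDegree + 2 ≤ r ∨ P₀ = 0) ∧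
      ∀ n : ℕ, (Curv2.euler k (P) (tw' (cokernel η) n) : ℚ) = P₀.eval (n : ℚ) := by
    have hdim := dim_add_le (Groth.L16.CohSupport.isClosed_support _ hQ.2)
      (Groth.L16.ProjSpace.topologicalKrullDim_eq_of_field (n := r) k) hcodim
    rcases Nat.lt_or_ge r 2 with h | h
    · refine ⟨0, Or.inr rfl, fun n => ?_⟩
      have hz : IsZero (cokernel η) := by
        rw [Groth.L21.Mod.isZero_iff_support_eq_empty, Set.eq_empty_iff_forall_notMem]
        intro z hz
        have h1 := hcodim z hz
        rw [ringKrullDim_stalk_eq_coheight] at h1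
        have h2 := Groth.L10.FMK.height_add_coheight_le z
        rw [← Groth.L10.FMK.krullDim_points, Groth.L16.ProjSpace.topologicalKrullDim_eq_of_field (n := r) k] at h2
        have h3 : ((2 : ℕ) : ℕ∞) ≤ (r : ℕ∞) :=
          ((WithBot.coe_le_coe.1 h1 : ((2 : ℕ) : ℕ∞) ≤ Order.coheight z).trans le_add_self).trans (by exact_mod_cast h2)
        exact absurd (by exact_mod_cast h3 : 2 ≤ r) (by omega)
      have hz' : IsZero (tw' (cokernel η) (n : ℤ)) := (tensorRightF (O' r k (n : ℤ))).map_isZero hz
      rw [Groth.L03.Euler.euler_of_isZero hz', Polynomial.eval_zero, Int.cast_zero]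
    · obtain ⟨P₀, hdeg, hP₀⟩ := Groth.L03.Euler.exists_isHilbPoly (k := k) hL hQ hdim
      refine ⟨P₀, Or.inl (by omega), fun n => ?_⟩
      rw [← hP₀ n]
      obtain ⟨t⟩ := Groth.L16.ProjTwist.nonempty_twist_iso_tensorPow (CohB1.polyGrading r k) (Groth.L22.Reg.hcov r k) n
      exact congrArg (Int.cast : ℤ → ℚ) (Groth.L03.Euler.euler_iso (tensorIso (Iso.refl _) t))
  have hed : e + r = r - d := by
    refine eq_of_choose_sub r hr _ _ P₀ hdeg fun n => ?_
    rw [← hP₀ n, hQe]
    push_cast
    ring_nf
  obtain rfl : e = -(d : ℤ) := by omega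
  have hz : IsZero (cokernel η) := isZero_of_euler hQ fun n => by
    rw [hQe, show -(d : ℤ) + n + r = n + r - d by ring, sub_self]
  haveI : Epi η := Preadditive.epi_of_isZero_cokernel η hz
  haveI : IsIso η := isIso_of_mono_of_epi η
  exact ⟨asIso η ≪≫ φ⟩

end Pn

end Groth.L04.HyperSurf
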