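import Mathlib.RingTheory.Binomial
import Mathlib.Algebra.Polynomial.Taylor
import Mathlib.Data.Rat.Lemmas
import Mathlib.Tactic.LinearCombination

/-!
# A difference of binomial polynomials of small degree
-/

set_option autoImplicit false

open Polynomial

noncomputable section

namespace Groth.L04.HyperSurf

theorem taylor_sub_degree (P : ℚ[X]) :
    taylor 1 P - P = 0 ∨ (taylor 1 P - P).natDegree < P.natDegree := by
  rcases eq_or_ne (taylor 1 P - P) 0 with h0 | h0
  · exact Or.inl h0
  refine Or.inr ?_
  have hle : (taylor 1 P - P).natDegree ≤ P.natDegree :=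
    (natDegree_sub_le _ _).trans (by simp [natDegree_taylor])
  refine lt_of_le_of_ne hle fun he => ?_
  have : (taylor 1 P - P).leadingCoeff = 0 := by
    have h2 : (taylor 1 P).coeff P.natDegree = P.coeff P.natDegree := by
      have h3 := leadingCoeff_taylor (r := (1 : ℚ)) (f := P)
      rwa [leadingCoeff, leadingCoeff, natDegree_taylor] at h3
    rw [leadingCoeff, he, coeff_sub, h2, sub_self]
  exact h0 (leadingCoeff_eq_zero.1 this)

/-- A difference of two translates of `C(t, r)` of degree less than `r - 1` is trivial. -/
theorem eq_of_choose_sub : ∀ (r : ℕ), 1 ≤ r → ∀ (a b : ℤ) (P : ℚ[X]), (P.natDegree + 2 ≤ r ∨ P = 0) →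
    (∀ n : ℕ, ((Ring.choose ((n : ℤ) + a) r - Ring.choose ((n : ℤ) + b) r : ℤ) : ℚ) = P.eval (n : ℚ)) →
    a = b := by
  intro r
  induction r with
  | zero => omega
  | succ r ih =>
    intro _ a b P hdeg hP
    rcases Nat.eq_zero_or_pos r with rfl | hr
    · have hP0 : P = 0 := hdeg.resolve_left (by omega)
      have h0 := hP 0
      rw [hP0, eval_zero, Ring.choose_one_right, Ring.choose_one_right] at h0
      have : (a : ℤ) - b = 0 := by exact_mod_cast (by simpa using h0 : ((a - b : ℤ) : ℚ) = 0)
      omega
    · refine ih hr a b (taylor 1 P - P) ?_ fun n => ?_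
      · rcases hdeg with hdeg | rfl
        · rcases taylor_sub_degree P with h | h
          · exact Or.inr h
          · exact Or.inl (by omega)
        · exact Or.inr (by simp)
      · have h1 := hP (n + 1)
        have h2 := hP n
        rw [eval_sub, taylor_eval]
        push_cast at h1 h2 ⊢
        rw [show (n : ℤ) + 1 + a = ((n : ℤ) + a) + 1 by ring, show (n : ℤ) + 1 + b = ((n : ℤ) + b) + 1 by ring,
          Ring.choose_succ_succ, Ring.choose_succ_succ] at h1
        push_cast at h1
        linear_combination h1 - h2

end Groth.L04.HyperSurf
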